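import Groth.Agent.Lift.K934.InvJets
import Groth.Agent.Lift.K934.NoZero
import Mathlib.Algebra.Polynomial.Taylor
import Mathlib.Algebra.CharP.Lemmas
import Mathlib.Data.ZMod.Basic
import Mathlib.FieldTheory.Finite.Basic
import Mathlib.LinearAlgebra.Dimension.Finite

/-!
# Translations acting on polynomials of bounded degree

`G = (ℤ/p)^m` acts on the space `k^(r+1)` of polynomials of degree `≤ r` by `f(X) ↦ f(X + A g)` where `A : G → k` is an
injective additive map.  If `r < p`, the only common eigenvectors of a nontrivial element are the constants.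
-/

set_option autoImplicit false
universe u

namespace K960.TayAct

open LefPen Groth.Agent Groth.Agent.Lefpen Groth.Agent.Lefpen.H170 Groth.Agent.Lefpen.H170.LinAut K934 K934.InvJets

variable {k : Type u} [Field k] {r : ℕ}

/-- The polynomial with given coefficients. -/
noncomputable def P (v : Fin (r + 1) → k) : Polynomial k := ∑ i : Fin (r + 1), Polynomial.monomial (i : ℕ) (v i)

theorem coeff_P (v : Fin (r + 1) → k) (i : Fin (r + 1)) : (P v).coeff i = v i := by
  classical
  rw [P, Polynomial.finsetSum_coeff, Finset.sum_eq_single i]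
  · rw [Polynomial.coeff_monomial, if_pos rfl]
  · intro j _ hj
    rw [Polynomial.coeff_monomial, if_neg (fun h => hj (Fin.ext h))]
  · simp

theorem degree_P (v : Fin (r + 1) → k) : (P v).degree < (r + 1 : ℕ) := by
  refine (Polynomial.degree_sum_le _ _).trans_lt ?_
  rw [Finset.sup_lt_iff (WithBot.bot_lt_coe _)]
  intro i _
  exact (Polynomial.degree_monomial_le _ _).trans_lt (WithBot.coe_lt_coe.2 i.2)

theorem P_coeff {f : Polynomial k} (hf : f.degree < (r + 1 : ℕ)) : P (fun i : Fin (r + 1) => f.coeff i) = f := by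
  ext n
  by_cases hn : n < r + 1
  · exact coeff_P _ ⟨n, hn⟩
  · rw [Polynomial.coeff_eq_zero_of_degree_lt (hf.trans_le (by exact_mod_cast not_lt.1 hn)),
      Polynomial.coeff_eq_zero_of_degree_lt ((degree_P _).trans_le (by exact_mod_cast not_lt.1 hn))]

theorem P_add (v w : Fin (r + 1) → k) : P (v + w) = P v + P w := by
  simp [P, Finset.sum_add_distrib]

theorem P_smul (c : k) (v : Fin (r + 1) → k) : P (c • v) = c • P v := by
  simp only [P, Finset.smul_sum, Polynomial.smul_monomial]
  rfl

theorem P_injective {v w : Fin (r + 1) → k} (h : P v = P w) : v = w := by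
  funext i
  rw [← coeff_P v, h, coeff_P]

/-- Translation of polynomials. -/
noncomputable def Tl (a : k) : (Fin (r + 1) → k) →ₗ[k] (Fin (r + 1) → k) where
  toFun v i := (Polynomial.taylor a (P v)).coeff i
  map_add' v w := by
    funext i
    rw [P_add, map_add, Polynomial.coeff_add]
    rfl
  map_smul' c v := by
    funext i
    rw [P_smul, map_smul, Polynomial.coeff_smul]
    rfl

theorem P_Tl (a : k) (v : Fin (r + 1) → k) : P (Tl a v) = Polynomial.taylor a (P v) :=
  P_coeff (f := Polynomial.taylor a (P v)) ((Polynomial.degree_taylor _ _).trans_lt (degree_P v))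

theorem Tl_Tl (a b : k) (v : Fin (r + 1) → k) : Tl a (Tl b v) = Tl (a + b) v := by
  apply P_injective
  rw [P_Tl, P_Tl, P_Tl, Polynomial.taylor_taylor]

theorem Tl_zero (v : Fin (r + 1) → k) : Tl 0 v = v := by
  apply P_injective
  rw [P_Tl, Polynomial.taylor_zero]

/-- Translation as an automorphism. -/
noncomputable def T (a : k) : (Fin (r + 1) → k) ≃ₗ[k] (Fin (r + 1) → k) :=
  LinearEquiv.ofLinearMap (Tl a) (Tl (-a))
    (LinearMap.ext fun v => by
      rw [LinearMap.comp_apply, Tl_Tl, add_neg_cancel, Tl_zero]; rfl)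
    (LinearMap.ext fun v => by
      rw [LinearMap.comp_apply, Tl_Tl, neg_add_cancel, Tl_zero]; rfl)

theorem T_apply (a : k) (v : Fin (r + 1) → k) : T a v = Tl a v := rfl

theorem T_add (a b : k) : (T (a + b) : (Fin (r + 1) → k) ≃ₗ[k] _) = T a * T b := by
  apply LinearEquiv.ext
  intro v
  change Tl (a + b) v = Tl a (Tl b v)
  rw [Tl_Tl]

theorem T_zero : (T (0 : k) : (Fin (r + 1) → k) ≃ₗ[k] _) = 1 := by
  apply LinearEquiv.ext
  intro v
  exact Tl_zero v

/-- The constant term is translated to the value. -/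
theorem T_apply_zero (a : k) (v : Fin (r + 1) → k) : T a v 0 = (P v).eval a := by
  rw [T_apply]
  change (Polynomial.taylor a (P v)).coeff 0 = _
  rw [Polynomial.taylor_coeff_zero]

/-- Eigenvectors of a nontrivial translation are constant. -/
theorem eq_zero_of_eigen (pc : ℕ) [Fact pc.Prime] [CharP k pc] (hr : r < pc) {a : k} (ha : a ≠ 0) {c : k}
    {v : Fin (r + 1) → k} (h : T a v = c • v) {i : Fin (r + 1)} (hi : i ≠ 0) : v i = 0 := by
  by_cases hv : v = 0
  · rw [hv]; rfl
  have hP0 : P v ≠ 0 := fun h0 => hv (P_injective (by rw [h0, P]; simp))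
  have h1 : Polynomial.taylor a (P v) = c • P v := by rw [← P_Tl, ← P_smul, ← h]; rfl
  have hc : c = 1 := by
    have h2 := congrArg Polynomial.leadingCoeff h1
    rw [Polynomial.leadingCoeff_taylor, Polynomial.smul_eq_C_mul, Polynomial.leadingCoeff_mul,
      Polynomial.leadingCoeff_C] at h2
    exact (mul_eq_right₀ (Polynomial.leadingCoeff_ne_zero.2 hP0)).1 h2.symm
  rw [hc, one_smul] at h1
  have h3 : ∀ n : ℕ, (P v).eval (n * a) = (P v).eval 0 := by
    intro n
    induction n with
    | zero => simp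
    | succ n ih =>
      rw [Nat.cast_succ, add_mul, one_mul, ← Polynomial.taylor_eval, h1, ih]
  have h4 : P v - Polynomial.C ((P v).eval 0) = 0 := by
    refine Polynomial.eq_zero_of_natDegree_lt_card_of_eval_eq_zero _ (f := fun n : Fin pc => ((n : ℕ) : k) * a) ?_ ?_ ?_
    · intro m n hmn
      have h5 : ((m : ℕ) : k) = ((n : ℕ) : k) := mul_right_cancel₀ ha hmn
      exact Fin.ext (CharP.natCast_injOn_Iio k pc m.2 n.2 h5)
    · intro n
      rw [Polynomial.eval_sub, Polynomial.eval_C, h3, sub_self]
    · rw [Fintype.card_fin, Polynomial.natDegree_sub_C]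
      refine lt_of_le_of_lt ?_ hr
      have := degree_P v
      rw [Polynomial.degree_eq_natDegree hP0] at this
      exact Nat.lt_succ_iff.1 (by exact_mod_cast this)
  have h5 : P v = Polynomial.C ((P v).eval 0) := sub_eq_zero.1 h4
  have h6 : (i : ℕ) ≠ 0 := fun h => hi (Fin.ext h)
  rw [← coeff_P v i, h5, Polynomial.coeff_C, if_neg h6]

section Grp

variable (pc : ℕ) [Fact pc.Prime] (m : ℕ)

/-- The group `(ℤ/p)^m`. -/
abbrev G : Type u := ULift.{u} (Multiplicative (Fin m → ZMod pc))

theorem card_G : Fintype.card (G.{u} pc m) = pc ^ m := by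
  rw [Fintype.card_ulift, Fintype.card_multiplicative, Fintype.card_fun, ZMod.card, Fintype.card_fin]

theorem pow_G (g : G.{u} pc m) : g ^ pc = 1 := by
  apply ULift.ext
  apply Multiplicative.toAdd.injective
  funext i
  change pc • (Multiplicative.toAdd g.down) i = 0
  rw [nsmul_eq_mul, CharP.cast_eq_zero, zero_mul]

/-- An infinite field of characteristic `p` contains `(ℤ/p)^m`. -/
theorem exists_add (k : Type u) [Field k] [CharP k pc] [Infinite k] :
    ∃ A : (Fin m → ZMod pc) →+ k, Function.Injective A := by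
  let _ : Algebra (ZMod pc) k := (ZMod.castHom (dvd_refl pc) k).toAlgebra
  have h1 : ¬ Module.Finite (ZMod pc) k := fun h => by
    have : Finite k := Module.finite_of_finite (ZMod pc)
    exact not_finite k
  have h2 : (m : Cardinal) ≤ Module.rank (ZMod pc) k := by
    refine (Cardinal.natCast_lt_aleph0 (n := m)).le.trans ?_
    by_contra h
    exact h1 (Module.rank_lt_aleph0_iff.1 (not_le.1 h))
  obtain ⟨s, hs1, hs2⟩ := le_rank_iff_exists_linearIndependent_finset.1 h2
  have h3 := Finset.equivFinOfCardEq hs1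
  refine ⟨(Fintype.linearCombination (ZMod pc) (fun i : Fin m => ((h3.symm i : s) : k))).toAddMonoidHom, ?_⟩
  have h4 : LinearIndependent (ZMod pc) (fun i : Fin m => ((h3.symm i : s) : k)) :=
    LinearIndependent.comp hs2 _ h3.symm.injective
  rw [Fintype.linearIndependent_iff] at h4
  refine (injective_iff_map_eq_zero (Fintype.linearCombination (ZMod pc)
    (fun i : Fin m => ((h3.symm i : s) : k))).toAddMonoidHom).2 fun g hg => ?_
  funext i
  exact h4 g hg i

variable {pc m} (A : (Fin m → ZMod pc) →+ k)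

/-- The action. -/
noncomputable def τ : G.{u} pc m →* ((Fin (r + 1) → k) ≃ₗ[k] (Fin (r + 1) → k)) where
  toFun g := T (A (Multiplicative.toAdd g.down))
  map_one' := by
    have : A (Multiplicative.toAdd (1 : G.{u} pc m).down) = 0 := map_zero A
    rw [this, T_zero]
  map_mul' g h := by
    have : A (Multiplicative.toAdd (g * h).down) =
      A (Multiplicative.toAdd g.down) + A (Multiplicative.toAdd h.down) := map_add A _ _
    rw [this, T_add]

theorem τ_apply (g : G.{u} pc m) : τ (r := r) A g = T (A (Multiplicative.toAdd g.down)) := rfl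

/-- The coordinates vanishing at the point with nontrivial stabiliser. -/
noncomputable def b (j : Fin r) : Form r k 1 := ⟨MvPolynomial.X j.succ, MvPolynomial.isHomogeneous_X _ _⟩

include A in
theorem ne_zero_of_ne_one (hA : Function.Injective A) {g : G.{u} pc m} (hg : g ≠ 1) :
    A (Multiplicative.toAdd g.down) ≠ 0 := by
  intro h
  apply hg
  apply ULift.ext
  apply Multiplicative.toAdd.injective
  apply hA
  rw [h]
  exact (map_zero A).symm

theorem free [CharP k pc] (hr : r < pc) (hA : Function.Injective A) (v : Fin (r + 1) → k)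
    (hv : ∃ l, MvPolynomial.eval v (b l : Form r k 1).1 ≠ 0) (g : G.{u} pc m) (hg : g ≠ 1) (c : k) :
    τ A g v ≠ c • v := by
  obtain ⟨l, hl⟩ := hv
  intro h
  apply hl
  have h1 := eq_zero_of_eigen pc hr (ne_zero_of_ne_one A hA hg) h (Fin.succ_ne_zero l)
  simpa [b] using h1

/-- The norm of the first coordinate. -/
noncomputable def N₀ : MvPolynomial (Fin (r + 1)) k := ∏ g : G.{u} pc m, sub (tl (τ A) g) (MvPolynomial.X 0)

theorem N₀_isHomogeneous : (N₀ (r := r) A).IsHomogeneous (Fintype.card (G.{u} pc m)) := by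
  have h1 := MvPolynomial.IsHomogeneous.prod Finset.univ
    (fun g : G.{u} pc m => sub (tl (τ (r := r) A) g) (MvPolynomial.X 0)) (fun _ => 1)
    (fun g _ => sub_isHomogeneous _ (MvPolynomial.isHomogeneous_X k 0))
  rw [Finset.sum_const, Finset.card_univ, smul_eq_mul, mul_one] at h1
  exact h1

theorem sub_N₀ [Infinite k] (h : G.{u} pc m) : sub (tl (τ (r := r) A) h) (N₀ A) = N₀ A := by
  rw [N₀, map_prod]
  simp only [sub_tl_mul]
  exact Fintype.prod_equiv (Equiv.mulRight h) _ _ fun g => rfl

/-- Its square. -/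
noncomputable def E : Form r k (2 * Fintype.card (G.{u} pc m)) :=
  ⟨N₀ A ^ 2, by
    have h := (N₀_isHomogeneous (r := r) A).pow 2
    rw [mul_comm] at h
    exact (MvPolynomial.mem_homogeneousSubmodule _ _).2 h⟩

theorem E_mem [Infinite k] : E (r := r) A ∈ inv (τ A) (2 * Fintype.card (G.{u} pc m)) := by
  intro g
  change sub _ (N₀ A ^ 2) = N₀ A ^ 2
  rw [map_pow, sub_N₀]

theorem eval_N₀ : MvPolynomial.eval (Pi.single 0 1 : Fin (r + 1) → k) (N₀ A) = 1 := by
  rw [N₀, map_prod]
  refine Finset.prod_eq_one fun g _ => ?_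
  rw [LinAut.eval_sub, MvPolynomial.eval_X]
  change T _ _ 0 = 1
  rw [T_apply_zero]
  have : P (Pi.single 0 1 : Fin (r + 1) → k) = 1 := by
    rw [P, Finset.sum_eq_single 0]
    · simp
    · intro j _ hj
      simp [hj]
    · simp
  rw [this, Polynomial.eval_one]

theorem mem_idl : ∀ Q : Form r k (2 * Fintype.card (G.{u} pc m)),
    Q.1 ∈ NoZero.idl (fun _ : Fin 1 => (E (r := r) A).1) (fun l => (b l : Form r k 1).1) := by
  classical
  set I := NoZero.idl (fun _ : Fin 1 => (E (r := r) A).1) (fun l => (b l : Form r k 1).1) with hI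
  set d := 2 * Fintype.card (G.{u} pc m) with hd
  have hb : ∀ l : Fin r, (MvPolynomial.X l.succ : MvPolynomial (Fin (r + 1)) k) ∈ I := fun l =>
    Ideal.subset_span (Or.inr ⟨l, rfl⟩)
  have hE : (E (r := r) A).1 ∈ I := Ideal.subset_span (Or.inl ⟨0, rfl⟩)
  -- monomials of degree `d` other than `X 0 ^ d`
  have hdeg : ∀ (F : Form r k d) (n : Fin (r + 1) →₀ ℕ), n ∈ F.1.support → n.degree = d := fun F n hn => by
    have h := (MvPolynomial.mem_homogeneousSubmodule _ _).1 F.2 (MvPolynomial.mem_support_iff.1 hn)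
    rw [← h]
    exact DFunLike.congr_fun Finsupp.degree_eq_weight_one n
  have hmon : ∀ n : Fin (r + 1) →₀ ℕ, (∃ l : Fin r, n l.succ ≠ 0) → ∀ c : k, MvPolynomial.monomial n c ∈ I := by
    rintro n ⟨l, hl⟩ c
    have h1 : MvPolynomial.monomial n c =
        MvPolynomial.monomial (n - Finsupp.single l.succ 1) c * MvPolynomial.X l.succ := by
      rw [MvPolynomial.X, MvPolynomial.monomial_mul, mul_one, tsub_add_cancel_of_le]
      rw [Finsupp.single_le_iff]
      omega
    rw [h1]
    exact I.mul_mem_left _ (hb l)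
  have hsingle : ∀ n : Fin (r + 1) →₀ ℕ, n.degree = d → (¬ ∃ l : Fin r, n l.succ ≠ 0) → n = Finsupp.single 0 d := by
    intro n hn h
    push Not at h
    have h0 : ∀ i, i ≠ 0 → n i = 0 := fun i hi => by
      obtain ⟨l, rfl⟩ := Fin.exists_succ_eq.2 hi
      exact h l
    ext i
    rw [Finsupp.single_apply]
    split_ifs with hi
    · subst hi
      rw [← hn, Finsupp.degree_eq_sum, Finset.sum_eq_single 0]
      · intro j _ hj; exact h0 j hj
      · simp
    · exact h0 i (fun h => hi h.symm)
  have hform : ∀ F : Form r k d,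
      F.1 - MvPolynomial.monomial (Finsupp.single 0 d) (F.1.coeff (Finsupp.single 0 d)) ∈ I := by
    intro F
    have h1 : F.1 - MvPolynomial.monomial (Finsupp.single 0 d) (F.1.coeff (Finsupp.single 0 d)) =
        ∑ n ∈ F.1.support.erase (Finsupp.single 0 d), MvPolynomial.monomial n (F.1.coeff n) := by
      rw [sub_eq_iff_eq_add]
      conv_lhs => rw [F.1.as_sum]
      by_cases hs : Finsupp.single 0 d ∈ F.1.support
      · rw [← Finset.sum_erase_add _ _ hs]
      · rw [Finset.erase_eq_of_notMem hs, MvPolynomial.notMem_support_iff.1 hs, map_zero, add_zero]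
    rw [h1]
    refine Ideal.sum_mem _ fun n hn => hmon n ?_ _
    by_contra hcon
    exact (Finset.mem_erase.1 hn).1 (hsingle n (hdeg F n (Finset.mem_erase.1 hn).2) hcon)
  have hcoef : ∀ F : Form r k d, F.1.coeff (Finsupp.single 0 d) =
      MvPolynomial.eval (Pi.single 0 1 : Fin (r + 1) → k) F.1 := by
    intro F
    rw [MvPolynomial.eval_eq']
    by_cases hs : Finsupp.single 0 d ∈ F.1.support
    · rw [Finset.sum_eq_single_of_mem _ hs]
      · rw [Finset.prod_eq_one, mul_one]
        intro i _
        by_cases hi : i = 0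
        · subst hi; simp
        · rw [Finsupp.single_apply, if_neg (fun h => hi h.symm), pow_zero]
      · intro n hn hne
        have h1 : ∃ l : Fin r, n l.succ ≠ 0 := by
          by_contra hcon
          exact hne (hsingle n (hdeg F n hn) hcon)
        obtain ⟨l, hl⟩ := h1
        rw [Finset.prod_eq_zero (Finset.mem_univ l.succ), mul_zero]
        rw [Pi.single_eq_of_ne (Fin.succ_ne_zero l), zero_pow hl]
    · rw [MvPolynomial.notMem_support_iff.1 hs, Finset.sum_eq_zero]
      intro n hn
      have h1 : ∃ l : Fin r, n l.succ ≠ 0 := by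
        by_contra hcon
        exact hs (hsingle n (hdeg F n hn) hcon ▸ hn)
      obtain ⟨l, hl⟩ := h1
      rw [Finset.prod_eq_zero (Finset.mem_univ l.succ), mul_zero]
      rw [Pi.single_eq_of_ne (Fin.succ_ne_zero l), zero_pow hl]
  have hE1 : (E (r := r) A).1.coeff (Finsupp.single 0 d) = 1 := by
    rw [hcoef]
    change MvPolynomial.eval _ (N₀ A ^ 2) = 1
    rw [map_pow, eval_N₀, one_pow]
  have hX : MvPolynomial.monomial (Finsupp.single (0 : Fin (r + 1)) d) (1 : k) ∈ I := by
    have h1 := hform (E (r := r) A)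
    rw [hE1] at h1
    have h2 := I.sub_mem hE h1
    rwa [sub_sub_cancel] at h2
  intro Q
  have h2 : Q.1 = (Q.1 - MvPolynomial.monomial (Finsupp.single 0 d) (Q.1.coeff (Finsupp.single 0 d))) +
      MvPolynomial.C (Q.1.coeff (Finsupp.single 0 d)) * MvPolynomial.monomial (Finsupp.single 0 d) 1 := by
    rw [MvPolynomial.C_mul_monomial, mul_one, sub_add_cancel]
  rw [h2]
  exact I.add_mem (hform Q) (I.mul_mem_left _ hX)

end Grp

end K960.TayAct
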