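import Groth.Agent.Lift.K960.TayAct
import Groth.Agent.Lift.K934.InvCI
import Groth.Agent.Lift.K934.Act
import Groth.Agent.Curves.K319.PnSep
import Groth.Agent.CurvSt.K898.HZeroOne
import Groth.Agent.Neron.K486.CompTop
import Groth.Agent.S4040
import Groth.Agent.S4041
import Groth.Agent.Sga67.TensorOps
import Groth.Agent.Sga1.FreeQuotSch

/-!
# The Serre threefold: a smooth hypersurface in `ℙ⁴` with a free action of `(ℤ/p)^9`
-/

set_option autoImplicit false
universe u

open CategoryTheory CategoryTheory.Limits AlgebraicGeometry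

namespace K960.Thr

open LefPen Groth.Agent Groth.Agent.Sga1 K934 K934.InvJets

variable {k : Type u} [Field k] [IsAlgClosed k]

/-- A smooth hypersurface of `ℙ⁴` on which `(ℤ/p)^m` acts freely by linear automorphisms. -/
theorem exists_hyp (k : Type u) [Field k] [IsAlgClosed k] (pc : ℕ) [Fact pc.Prime] [CharP k pc] (hpc : 5 ≤ pc)
    (m : ℕ) :
    ∃ (A : (Fin m → ZMod pc) →+ k)
      (F : Fin 1 → Form 4 k (2 * Fintype.card (TayAct.G.{u} pc m)))
      (hF : ∀ j, F j ∈ inv (TayAct.τ (r := 4) A) (2 * Fintype.card (TayAct.G.{u} pc m))),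
      SmoothOfRelativeDimension 3 (Act.yStr F) ∧ IsIntegral (Act.Y F) ∧
      FreeQuotSch.IsFree (Act.ρ (TayAct.τ (r := 4) A) hF) ∧
      Subsingleton (Coh.HH (Act.Y F) (Coh.structureModule (Act.Y F)) 1) ∧
      Subsingleton (Coh.HH (Act.Y F) (Coh.structureModule (Act.Y F)) 2) := by
  obtain ⟨A, hA⟩ := TayAct.exists_add pc m k
  have hfr := TayAct.free (k := k) (r := 4) A (by omega) hA
  obtain ⟨F, hF, hFD, hsm⟩ := InvCI.exists_ci (d := 2 * Fintype.card (TayAct.G.{u} pc m)) (TayAct.τ (r := 4) A)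
    (by omega) (fun l => (TayAct.b l : Form 4 k 1)) hfr 1 (by omega) (fun _ => TayAct.E A)
    (fun _ => TayAct.E_mem A) _ (TayAct.mem_idl A)
  have hr : 4 - 1 = 3 := rfl
  rw [hr] at hsm
  have hsm : SmoothOfRelativeDimension 3 (Act.yStr F) := hsm
  have ha : ∀ j : Fin 1, 1 ≤ (fun _ : Fin 1 => 2 * Fintype.card (TayAct.G.{u} pc m)) j := fun _ => by
    have : 0 < Fintype.card (TayAct.G.{u} pc m) := Fintype.card_pos
    change 1 ≤ 2 * Fintype.card (TayAct.G.{u} pc m)
    omega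
  have hI0 := Sga67.TensorOps.isExtPow_zero (Omega.sheaf (Act.yStr F))
  have hvan : ∀ i, 0 < i → i < 3 → Subsingleton (Coh.HH (Act.Y F) (Coh.structureModule (Act.Y F)) i) :=
    fun i h1 h2 => S4040.result k 3 1 (by omega) (fun _ => 2 * Fintype.card (TayAct.G.{u} pc m)) ha F 0 _ hI0 i
      (by omega) (by omega)
  refine ⟨A, F, hF, hsm, ?_, ?_, hvan 1 (by omega) (by omega), hvan 2 (by omega) (by omega)⟩
  · let _ : (Act.Y F).Over (Spec (CommRingCat.of k)) := ⟨Act.yStr F⟩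
    have h0 : Module.finrank k (Coh.HH (Act.Y F) (Coh.structureModule (Act.Y F)) 0) = 1 :=
      S4041.result k 3 1 (by omega) (fun _ => 2 * Fintype.card (TayAct.G.{u} pc m)) ha F rfl 0 (by omega)
        (by omega) _ hI0
    have hsmY : Smooth (Act.yStr F) := SmoothOfRelativeDimension.smooth 3 _
    have hconn : ConnectedSpace (Act.Y F) := K898.HZeroOne.connectedSpace_of_finrank k _ h0
    exact K486.CompTop.isIntegral_of_connected (Act.yStr F)
  · exact fun K _ _ ξ g hξ =>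
      Act.free (TayAct.τ (r := 4) A) hF (fun l => (TayAct.b l : Form 4 k 1)) hfr _ hFD K ξ g hξ

/-- A free action on a scheme of finite type over an algebraically closed field moves some closed point. -/
theorem exists_ne {Y : Scheme.{u}} [Nonempty Y] (f : Y ⟶ Spec (CommRingCat.of k)) [LocallyOfFiniteType f]
    {G : Type u} [Group G] (ρ : G →* Aut Y) (hρ : ∀ g : G, (ρ g).hom ≫ f = f) (hfree : FreeQuotSch.IsFree ρ)
    (g : G) (hg : g ≠ 1) : ∃ y : Y, IsClosed ({y} : Set Y) ∧ (ρ g).hom y ≠ y := by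
  obtain ⟨σ, hσ⟩ := Act.exists_rational f
  refine ⟨σ (IsLocalRing.closedPoint k), (pointEquivClosedPoint f ⟨σ, hσ⟩).2, fun h => hg ?_⟩
  refine hfree k σ g ?_
  refine ext_of_apply_closedPoint_eq f (by rw [Category.assoc, hρ, hσ]) hσ ?_
  rw [Scheme.Hom.comp_apply]
  exact h

/-- The sections of `𝒪(1)` separate the action from the identity. -/
theorem exists_sec {Y : Scheme.{u}} [Nonempty Y] {n : ℕ} (ι : Y ⟶ CohB1.ProjSpace n k) [IsClosedImmersion ι]
    {G : Type u} [Group G] (ρ : G →* Aut Y)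
    (hρ : ∀ g : G, (ρ g).hom ≫ ι ≫ CohB1.ProjSpace.toSpec n k = ι ≫ CohB1.ProjSpace.toSpec n k)
    (hfree : FreeQuotSch.IsFree ρ) (g : G) (hg : g ≠ 1) :
    ∃ s : Coh.structureModule Y ⟶ (Scheme.Modules.pullback ι).obj (Twist.twistProjSpace n k 1),
      (ρ g).hom ⁻¹ᵁ CohB1.genLocus _ s ≠ CohB1.genLocus _ s := by
  have hP : LocallyOfFiniteType (CohB1.ProjSpace.toSpec n k) :=
    (Groth.Agent.Ega3B.ProjProper.isProper_toSpec n k).toLocallyOfFiniteType
  obtain ⟨y, hy, hne⟩ := exists_ne (ι ≫ CohB1.ProjSpace.toSpec n k) ρ hρ hfree g hg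
  obtain ⟨s, h1, h2⟩ := K319.PnSep.exists_sep ι y ((ρ g).hom y) hy hne
  refine ⟨s, fun h => h1 ?_⟩
  rw [← h]
  exact h2

end K960.Thr
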